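import Mathlib

/-!
# Cocycle-level core of: `H³(Q,ℤ) = 0` and `M` `n`-divisible with cyclic `n`-torsion ⇒ `H²(Q,M) = 0`
-/

namespace Groth.Agent.Lib.Helper24.H2Core

open Finset

variable {Q : Type*} [Group Q] [Fintype Q]

/-- summing the cocycle identity: `n • c(g,h) = b h - b (g h) + b g` with `b g = ∑ h, c (g,h)`. -/
theorem card_smul_cocycle {M : Type*} [AddCommGroup M] (c : Q → Q → M)
    (hc : ∀ g h j, c (g * h) j + c g h = c h j + c g (h * j)) (g h : Q) :
    Fintype.card Q • c g h = (∑ j, c h j) - (∑ j, c (g * h) j) + ∑ j, c g j := by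
  have h1 : ∑ j : Q, (c (g * h) j + c g h) = ∑ j : Q, (c h j + c g (h * j)) :=
    Finset.sum_congr rfl (fun j _ => hc g h j)
  rw [Finset.sum_add_distrib, Finset.sum_add_distrib, Finset.sum_const, Finset.card_univ] at h1
  have h2 : ∑ j : Q, c g (h * j) = ∑ j : Q, c g j :=
    Fintype.sum_equiv (Equiv.mulLeft h) _ _ (fun j => rfl)
  rw [h2] at h1
  rw [eq_sub_of_add_eq' h1]
  abel

theorem core {M : Type*} [AddCommGroup M]
    (hdiv : ∀ x : M, ∃ y : M, Fintype.card Q • y = x)
    (ζ : M) (hζ : ∀ x : M, Fintype.card Q • x = 0 → ∃ i : ℤ, x = i • ζ)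
    (hord : ∀ i : ℤ, i • ζ = 0 → (Fintype.card Q : ℤ) ∣ i)
    (hζn : Fintype.card Q • ζ = 0)
    (H3 : ∀ e : Q → Q → ℤ,
      (∀ g h j, (Fintype.card Q : ℤ) ∣ e h j - e (g * h) j + e g (h * j) - e g h) →
      ∃ y : Q → Q → ℤ, ∀ g h j, e h j - e (g * h) j + e g (h * j) - e g h =
        (Fintype.card Q : ℤ) * (y h j - y (g * h) j + y g (h * j) - y g h))
    (c : Q → Q → M) (hc : ∀ g h j, c (g * h) j + c g h = c h j + c g (h * j)) :
    ∃ a : Q → M, ∀ g h, c g h = a h - a (g * h) + a g := by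
  classical
  set n := Fintype.card Q with hn
  -- step 1
  choose a ha using fun g : Q => hdiv (∑ j, c g j)
  set c' : Q → Q → M := fun g h => c g h - (a h - a (g * h) + a g) with hc'
  have hc'n : ∀ g h, n • c' g h = 0 := by
    intro g h
    simp only [hc', smul_sub, smul_add, ha]
    rw [card_smul_cocycle c hc g h]
    abel
  have hc'coc : ∀ g h j, c' (g * h) j + c' g h = c' h j + c' g (h * j) := by
    intro g h j
    simp only [hc']
    have := hc g h j
    rw [mul_assoc, show c (g * h) j = c h j + c g (h * j) - c g h from eq_sub_of_add_eq this]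
    abel
  choose e he using fun g h => hζ (c' g h) (hc'n g h)
  have hediv : ∀ g h j, (n : ℤ) ∣ e h j - e (g * h) j + e g (h * j) - e g h := by
    intro g h j
    apply hord
    have := hc'coc g h j
    rw [he (g * h) j, he g h, he h j, he g (h * j)] at this
    rw [sub_smul, add_smul, sub_smul,
      show e (g * h) j • ζ = e h j • ζ + e g (h * j) • ζ - e g h • ζ from eq_sub_of_add_eq this]
    abel
  obtain ⟨y, hy⟩ := H3 e hediv
  set z : Q → Q → ℤ := fun g h => e g h - n * y g h with hz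
  have hzcoc : ∀ g h j, z (g * h) j + z g h = z h j + z g (h * j) := by
    intro g h j
    simp only [hz]
    have := hy g h j
    linarith
  obtain ⟨ξ, hξ⟩ := hdiv ζ
  have hzn : ∀ g h, (n : ℤ) * z g h = (∑ j, z h j) - (∑ j, z (g * h) j) + ∑ j, z g j := by
    intro g h
    have := card_smul_cocycle z hzcoc g h
    rw [← hn, nsmul_eq_mul] at this
    exact_mod_cast this
  have hc'z : ∀ g h, c' g h = z g h • ζ := by
    intro g h
    rw [he g h, hz]
    simp only
    rw [sub_smul, mul_smul, natCast_zsmul, smul_comm, hζn, smul_zero, sub_zero]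
  refine ⟨fun g => a g + (∑ j, z g j) • ξ, fun g h => ?_⟩
  have h1 : c g h = c' g h + (a h - a (g * h) + a g) := by simp only [hc']; abel
  beta_reduce
  rw [h1, hc'z, ← hξ, ← natCast_zsmul ξ n, ← mul_smul, mul_comm, hzn g h, add_smul, sub_smul]
  generalize (∑ j, z h j) • ξ = A
  generalize (∑ j, z (g * h) j) • ξ = B
  generalize (∑ j, z g j) • ξ = C
  abel

end Groth.Agent.Lib.Helper24.H2Core
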