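import Mathlib
import Groth.Agent.Lib.Helper24.GrpCoh.H2Core

/-!
# From `H³(Q,ℤ) = 0` to the cocycle-level lifting statement
-/

namespace Groth.Agent.Lib.Helper24.H3Trans

open CategoryTheory groupCohomology

variable (Q : Type) [Group Q]

/-- exactness at degree 3, elementwise. -/
theorem exact_three (hQ : Subsingleton (groupCohomology (Rep.trivial ℤ Q ℤ) 3))
    (w : (inhomogeneousCochains (Rep.trivial ℤ Q ℤ)).X 3)
    (hw : (inhomogeneousCochains (Rep.trivial ℤ Q ℤ)).d 3 4 w = 0) :
    ∃ y : (inhomogeneousCochains (Rep.trivial ℤ Q ℤ)).X 2,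
      (inhomogeneousCochains (Rep.trivial ℤ Q ℤ)).d 2 3 y = w := by
  have hz : Limits.IsZero ((inhomogeneousCochains (Rep.trivial ℤ Q ℤ)).homology 3) := by
    have : Subsingleton ((inhomogeneousCochains (Rep.trivial ℤ Q ℤ)).homology 3) := hQ
    exact ModuleCat.isZero_of_subsingleton _
  have hex : (inhomogeneousCochains (Rep.trivial ℤ Q ℤ)).ExactAt 3 := by
    rw [HomologicalComplex.exactAt_iff_isZero_homology]; exact hz
  have hex' := ((inhomogeneousCochains (Rep.trivial ℤ Q ℤ)).exactAt_iff' 2 3 4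
    (by simp) (by simp)).mp hex
  rw [ShortComplex.moduleCat_exact_iff] at hex'
  exact hex' w hw

theorem H3' [Fintype Q] (hQ : Subsingleton (groupCohomology (Rep.trivial ℤ Q ℤ) 3))
    (e : Q → Q → ℤ)
    (he : ∀ g h j, (Fintype.card Q : ℤ) ∣ e h j - e (g * h) j + e g (h * j) - e g h) :
    ∃ y : Q → Q → ℤ, ∀ g h j, e h j - e (g * h) j + e g (h * j) - e g h =
        (Fintype.card Q : ℤ) * (y h j - y (g * h) j + y g (h * j) - y g h) := by
  set A := Rep.trivial ℤ Q ℤ with hA
  set n : ℤ := (Fintype.card Q : ℤ) with hn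
  have hn0 : n ≠ 0 := by
    rw [hn]; exact_mod_cast Fintype.card_ne_zero
  let E : ModuleCat.of ℤ (Q × Q → A) := fun p => e p.1 p.2
  have hdE : ∀ g h j, (d₂₃ A).hom E (g, h, j) = e h j - e (g * h) j + e g (h * j) - e g h := by
    intro g h j
    rw [d₂₃_hom_apply]
    rfl
  choose W0 hW0 using he
  let W : ModuleCat.of ℤ (Q × Q × Q → A) := fun t => W0 t.1 t.2.1 t.2.2
  have hnW : n • W = (d₂₃ A).hom E := by
    funext t
    obtain ⟨g, h, j⟩ := t
    rw [hdE g h j, hW0 g h j]
    rfl
  -- transfer to the general complex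
  set W' := (cochainsIso₃ A).inv W with hW'
  have h1 : n • W' = (inhomogeneousCochains A).d 2 3 ((cochainsIso₂ A).inv E) := by
    have := eq_d₂₃_comp_inv_apply A E
    rw [this, ← hnW, map_smul]
  have h2 : (inhomogeneousCochains A).d 3 4 W' = 0 := by
    have h3 : n • (inhomogeneousCochains A).d 3 4 W' = 0 := by
      rw [← map_smul, h1]
      have := (inhomogeneousCochains A).d_comp_d 2 3 4
      exact congr($this ((cochainsIso₂ A).inv E))
    funext t
    have h4 := congrFun h3 t
    exact (mul_eq_zero.mp h4).resolve_left hn0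
  obtain ⟨Y', hY'⟩ := exact_three Q hQ W' h2
  set Y := (cochainsIso₂ A).hom Y' with hY
  have h5 : (d₂₃ A).hom Y = W := by
    have := congr($(comp_d₂₃_eq A) Y')
    simp only [ModuleCat.hom_comp, LinearMap.comp_apply] at this
    rw [hY, this, hY', hW']
    exact congr($((cochainsIso₃ A).inv_hom_id) W)
  refine ⟨fun g h => Y (g, h), fun g h j => ?_⟩
  have h6 := congrFun h5 (g, h, j)
  rw [d₂₃_hom_apply] at h6
  rw [hW0 g h j]
  congr 1
  exact h6.symm

end Groth.Agent.Lib.Helper24.H3Trans
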