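import Mathlib
import Groth.Agent.Lib.Helper24.GrpCoh.H3Trans

/-!
# `H²(Q, kˣ) = 0` for `k` separably closed, `p ∤ |Q|`, `H³(Q,ℤ) = 0`
-/

namespace Groth.Agent.Lib.Helper24.H2Units

open CategoryTheory groupCohomology

theorem main (Q : Type) [Group Q] [Finite Q]
    (hQ : Subsingleton (groupCohomology (Rep.trivial ℤ Q ℤ) 3)) (k : Type) [Field k] [IsSepClosed k]
    (p : ℕ) [CharP k p] (hp : ¬ p ∣ Nat.card Q) :
    Subsingleton (groupCohomology (Rep.trivial ℤ Q (Additive kˣ)) 2) := by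
  classical
  haveI := Fintype.ofFinite Q
  set n := Fintype.card Q with hn
  have hcard : Nat.card Q = n := Nat.card_eq_fintype_card
  rw [hcard] at hp
  have hnk : (n : k) ≠ 0 := by
    rw [Ne, CharP.cast_eq_zero_iff k p n]; exact hp
  haveI : NeZero (n : k) := ⟨hnk⟩
  have hn0 : n ≠ 0 := Fintype.card_ne_zero
  haveI : NeZero n := ⟨hn0⟩
  -- divisibility
  have hdiv : ∀ x : Additive kˣ, ∃ y : Additive kˣ, n • y = x := by
    intro x
    obtain ⟨z, hz⟩ := IsSepClosed.exists_pow_nat_eq ((Additive.toMul x : kˣ) : k) n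
    have hz0 : z ≠ 0 := by
      rintro rfl
      rw [zero_pow hn0] at hz
      exact (Additive.toMul x).ne_zero hz.symm
    refine ⟨Additive.ofMul (Units.mk0 z hz0), ?_⟩
    rw [← ofMul_pow]
    apply Additive.toMul.injective
    apply Units.ext
    simp [hz]
  obtain ⟨ζ0, hζ0⟩ := HasEnoughRootsOfUnity.exists_primitiveRoot k n
  set ζu : kˣ := (hζ0.isUnit hn0).unit with hζu
  have hζuprim : IsPrimitiveRoot ζu n := by
    rw [← IsPrimitiveRoot.coe_units_iff]; exact hζ0
  set ζ : Additive kˣ := Additive.ofMul ζu with hζdef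
  have hζ : ∀ x : Additive kˣ, n • x = 0 → ∃ i : ℤ, x = i • ζ := by
    intro x hx
    have h1 : (Additive.toMul x : kˣ) ^ n = 1 := by
      have := congrArg Additive.toMul hx
      simpa using this
    have h1' : ((Additive.toMul x : kˣ) : k) ^ n = 1 := by
      rw [← Units.val_pow_eq_pow_val, h1]; rfl
    obtain ⟨i, _, hi⟩ := hζ0.eq_pow_of_pow_eq_one h1'
    refine ⟨(i : ℤ), ?_⟩
    rw [natCast_zsmul, hζdef, ← ofMul_pow]
    apply Additive.toMul.injective
    apply Units.ext
    rw [← hi]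
    simp [hζu]
  have hord : ∀ i : ℤ, i • ζ = 0 → (n : ℤ) ∣ i := by
    intro i hi
    rw [← hζuprim.zpow_eq_one_iff_dvd]
    have := congrArg Additive.toMul hi
    simpa [hζdef] using this
  have hζn : n • ζ = 0 := by
    rw [hζdef, ← ofMul_pow, hζuprim.pow_eq_one]; rfl
  have H3 := H3Trans.H3' Q hQ
  set A := Rep.trivial ℤ Q (Additive kˣ) with hA
  have key : ∀ x : H2 A, x = 0 := by
    intro x
    induction x using H2_induction_on with
    | h c =>
      rw [H2π_eq_zero_iff]
      have hc := (mem_cocycles₂_iff (c : Q × Q → A)).mp c.2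
      obtain ⟨a, ha⟩ := H2Core.core (Q := Q) (M := Additive kˣ) hdiv ζ hζ hord hζn H3
        (fun g h => c (g, h)) (fun g h j => hc g h j)
      refine ⟨(a : Q → A), ?_⟩
      funext t
      obtain ⟨g, h⟩ := t
      rw [d₁₂_hom_apply]
      exact (ha g h).symm
  exact ⟨fun x y => by rw [key x, key y]⟩

end Groth.Agent.Lib.Helper24.H2Units
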